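import Cfsg.Prelude.Def_Classical

/-!
Bit-sliced matrices of size seven over the field with three elements, for kernel computations.
-/

set_option autoImplicit false

namespace Cfsg.Agent.Components.OmegaSeven

/-- The index type of the vectors. -/
abbrev I7 : Type := Unit ⊕ (Fin 3 ⊕ Fin 3)

def pos : I7 → ℕ
  | .inl _ => 0
  | .inr (.inl i) => 1 + i.val
  | .inr (.inr i) => 4 + i.val

lemma pos_lt : ∀ i : I7, pos i < 7 := by decide

lemma pos_injective : ∀ i j : I7, pos i = pos j → i = j := by decide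

def ix : ℕ → I7
  | 0 => .inl ()
  | 1 => .inr (.inl 0)
  | 2 => .inr (.inl 1)
  | 3 => .inr (.inl 2)
  | 4 => .inr (.inr 0)
  | 5 => .inr (.inr 1)
  | _ => .inr (.inr 2)

lemma pos_ix : ∀ k < 7, pos (ix k) = k := by decide

/-- The value of a pair of bits. -/
def bval (a b : Bool) : ZMod 3 := if a then 1 else if b then 2 else 0

/-- The entry in column `k` of a row. -/
def rval (r : ℕ × ℕ) (k : ℕ) : ZMod 3 := bval (r.1.testBit k) (r.2.testBit k)

def Disj (r : ℕ × ℕ) : Prop := ∀ k, ¬ (r.1.testBit k = true ∧ r.2.testBit k = true)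

def radd (a b : ℕ × ℕ) : ℕ × ℕ :=
  let u := (a.1 ||| a.2) ^^^ (b.1 ||| b.2)
  (((a.1 ||| b.1) &&& u) ||| (a.2 &&& b.2), ((a.2 ||| b.2) &&& u) ||| (a.1 &&& b.1))

lemma rval_radd {a b : ℕ × ℕ} (ha : Disj a) (hb : Disj b) (k : ℕ) :
    rval (radd a b) k = rval a k + rval b k := by
  have h1 := ha k
  have h2 := hb k
  simp only [rval, radd, Nat.testBit_lor, Nat.testBit_land, Nat.testBit_xor]
  revert h1 h2
  cases a.1.testBit k <;> cases a.2.testBit k <;> cases b.1.testBit k <;> cases b.2.testBit k <;>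
    simp [bval] <;> decide

lemma disj_radd {a b : ℕ × ℕ} (ha : Disj a) (hb : Disj b) : Disj (radd a b) := by
  intro k
  have h1 := ha k
  have h2 := hb k
  simp only [radd, Nat.testBit_lor, Nat.testBit_land, Nat.testBit_xor]
  revert h1 h2
  cases a.1.testBit k <;> cases a.2.testBit k <;> cases b.1.testBit k <;> cases b.2.testBit k <;>
    simp

lemma rval_swap {a : ℕ × ℕ} (ha : Disj a) (k : ℕ) : rval a.swap k = 2 * rval a k := by
  have h1 := ha k
  simp only [rval, Prod.swap]
  revert h1
  cases a.1.testBit k <;> cases a.2.testBit k <;> simp [bval] <;> decide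

lemma disj_swap {a : ℕ × ℕ} (ha : Disj a) : Disj a.swap := fun k h => ha k ⟨h.2, h.1⟩

/-- An elementary row operation: add row `b`, or its negative, to row `a`. -/
abbrev Op : Type := I7 × I7 × Bool

/-- A matrix, as its list of rows. -/
abbrev M7 : Type := List (ℕ × ℕ)

def row (M : M7) (k : ℕ) : ℕ × ℕ := M.getD k (0, 0)

def step (M : M7) (o : Op) : M7 :=
  M.set (pos o.1) (radd (row M (pos o.1))
    (if o.2.2 then (row M (pos o.2.1)).swap else row M (pos o.2.1)))

def run (os : List Op) (M : M7) : M7 := os.foldl step M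

def one7 : M7 := [(1, 0), (2, 0), (4, 0), (8, 0), (16, 0), (32, 0), (64, 0)]

def Ok (M : M7) : Prop := M.length = 7 ∧ ∀ k, Disj (row M k)

def mat (M : M7) : Matrix I7 I7 (ZMod 3) := Matrix.of fun i j => rval (row M (pos i)) (pos j)

lemma mat_apply (M : M7) (i j : I7) : mat M i j = rval (row M (pos i)) (pos j) := rfl

def opMat (o : Op) : Matrix I7 I7 (ZMod 3) := Matrix.transvection o.1 o.2.1 (if o.2.2 then 2 else 1)

def opsMat : List Op → Matrix I7 I7 (ZMod 3)
  | [] => 1
  | o :: os => opsMat os * opMat o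

lemma disj_zero : Disj (0, 0) := fun k => by simp

lemma ok_one : Ok one7 := by
  refine ⟨rfl, fun k j h => ?_⟩
  have : (row one7 k).2 = 0 := by
    rcases lt_or_ge k 7 with hk | hk
    · interval_cases k <;> rfl
    · unfold row
      rw [List.getD_eq_default one7 (0, 0) (n := k) hk]
  rw [this] at h
  simp at h

lemma mat_one : mat one7 = 1 := by decide +kernel

lemma row_step {M : M7} (hM : Ok M) (o : Op) (k : ℕ) : row (step M o) k =
    if k = pos o.1 then radd (row M (pos o.1))
      (if o.2.2 then (row M (pos o.2.1)).swap else row M (pos o.2.1)) else row M k := by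
  have := pos_lt o.1
  unfold row step
  rcases eq_or_ne k (pos o.1) with rfl | hk
  · simp [List.getD_eq_getElem?_getD, hM.1, this, row]
  · rw [if_neg hk]
    simp [List.getD_eq_getElem?_getD, Ne.symm hk]

lemma ok_step {M : M7} (hM : Ok M) (o : Op) : Ok (step M o) := by
  refine ⟨by simp [step, hM.1], fun k => ?_⟩
  rw [row_step hM]
  split_ifs
  · exact disj_radd (hM.2 _) (disj_swap (hM.2 _))
  · exact disj_radd (hM.2 _) (hM.2 _)
  · exact hM.2 k

lemma mat_step {M : M7} (hM : Ok M) (o : Op) : mat (step M o) = opMat o * mat M := by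
  ext i j
  rw [mat_apply, opMat, row_step hM]
  rcases eq_or_ne i o.1 with rfl | hi
  · rw [if_pos rfl, Matrix.transvection_mul_apply_same]
    rw [mat_apply, mat_apply]
    split_ifs
    · rw [rval_radd (hM.2 _) (disj_swap (hM.2 _)), rval_swap (hM.2 _)]
    · rw [rval_radd (hM.2 _) (hM.2 _), one_mul]
  · rw [if_neg fun h => hi (pos_injective _ _ h), Matrix.transvection_mul_apply_of_ne _ _ _ _ hi, mat_apply]

lemma run_spec : ∀ (os : List Op) {M : M7}, Ok M → Ok (run os M) ∧ mat (run os M) = opsMat os * mat M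
  | [], M, hM => ⟨hM, by simp [run, opsMat]⟩
  | o :: os, M, hM => by
    obtain ⟨h1, h2⟩ := run_spec os (ok_step hM o)
    refine ⟨h1, ?_⟩
    show mat (run os (step M o)) = _
    rw [h2, mat_step hM, opsMat, Matrix.mul_assoc]

lemma opsMat_append : ∀ os os' : List Op, opsMat (os ++ os') = opsMat os' * opsMat os
  | [], os' => by simp [opsMat]
  | o :: os, os' => by rw [List.cons_append, opsMat, opsMat, opsMat_append os os', Matrix.mul_assoc]

lemma opsMat_eq (os : List Op) : opsMat os = mat (run os one7) := by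
  rw [(run_spec os ok_one).2, mat_one, Matrix.mul_one]

end Cfsg.Agent.Components.OmegaSeven
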