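import Cfsg.Agent.Lib.Components.OmegaSeven.Bits

/-!
Root elements of the seven-dimensional orthogonal group over the field with three elements.
-/

set_option autoImplicit false

namespace Cfsg.Agent.Components.OmegaSeven

/-- Elementary operations of the eighteen root elements. -/
def opsList : List (List Op) :=
  [[(ix 2, ix 3, true), (ix 6, ix 5, false)],
   [(ix 0, ix 6, false), (ix 3, ix 0, false), (ix 3, ix 6, false)],
   [(ix 0, ix 5, false), (ix 2, ix 0, false), (ix 2, ix 5, false)],
   [(ix 2, ix 6, true), (ix 3, ix 5, false)],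
   [(ix 1, ix 2, true), (ix 5, ix 4, false)],
   [(ix 1, ix 3, true), (ix 6, ix 4, false)],
   [(ix 0, ix 4, false), (ix 1, ix 0, false), (ix 1, ix 4, false)],
   [(ix 1, ix 6, true), (ix 3, ix 4, false)],
   [(ix 1, ix 5, true), (ix 2, ix 4, false)],
   [(ix 3, ix 2, false), (ix 5, ix 6, true)],
   [(ix 0, ix 3, false), (ix 6, ix 0, false), (ix 6, ix 3, false)],
   [(ix 0, ix 2, false), (ix 5, ix 0, false), (ix 5, ix 2, false)],
   [(ix 5, ix 3, true), (ix 6, ix 2, false)],
   [(ix 2, ix 1, false), (ix 4, ix 5, true)],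
   [(ix 3, ix 1, false), (ix 4, ix 6, true)],
   [(ix 0, ix 1, false), (ix 4, ix 0, false), (ix 4, ix 1, false)],
   [(ix 4, ix 3, true), (ix 6, ix 1, false)],
   [(ix 4, ix 2, true), (ix 5, ix 1, false)]]

/-- A pair of coordinates whose negation inverts the root element. -/
def torList : List ℕ := [2, 3, 2, 2, 1, 1, 1, 1, 1, 2, 3, 2, 2, 1, 1, 1, 1, 1]

end Cfsg.Agent.Components.OmegaSeven
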