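import Cfsg.Agent.Lib.Components.OmegaSeven.GenData
import Cfsg.Agent.Lib.Classical.OrthForms
import Cfsg.Agent.Lib.OrthMult.OddMain

/-!
The root elements lie in `Ω₇(3)`; words in them are evaluated by row operations.
-/

set_option autoImplicit false

namespace Cfsg.Agent.Components.OmegaSeven

open Cfsg.Agent.Classical Matrix
open scoped commutatorElement

/-- The standard form. -/
noncomputable abbrev Q7 : QuadraticForm (ZMod 3) (I7 → ZMod 3) := OrthForms.oddQ (ZMod 3) 3

/-- Its isometry group. -/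
abbrev O7 : Subgroup (GL I7 (ZMod 3)) := Cfsg.isometryGroup (ZMod 3) (Cfsg.quadFormOdd 3 (ZMod 3))

/-- The commutator subgroup of the isometry group. -/
abbrev W7 : Subgroup O7 := Cfsg.Omega (ZMod 3) (Cfsg.quadFormOdd 3 (ZMod 3))

/-- The Gram matrix. -/
def gram : Matrix I7 I7 (ZMod 3) := fun i j =>
  match i, j with
  | .inl _, .inl _ => 2
  | .inr (.inl a), .inr (.inr b) => if a = b then 1 else 0
  | .inr (.inr a), .inr (.inl b) => if a = b then 1 else 0
  | _, _ => 0

lemma quad_eq_gram (v : I7 → ZMod 3) :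
    Cfsg.quadFormOdd 3 (ZMod 3) v = 2 * (v ⬝ᵥ (gram *ᵥ v)) := by
  simp only [Cfsg.quadFormOdd, dotProduct, mulVec, Fintype.sum_sum_type, Fintype.sum_unique,
    Fin.sum_univ_three, gram, PUnit.default_eq_unit]
  simp
  ring_nf
  have h4 : (4 : ZMod 3) = 1 := by decide
  rw [h4]
  ring

lemma quad_invariant {A : Matrix I7 I7 (ZMod 3)} (hA : Aᵀ * gram * A = gram) (v : I7 → ZMod 3) :
    Cfsg.quadFormOdd 3 (ZMod 3) (A *ᵥ v) = Cfsg.quadFormOdd 3 (ZMod 3) v := by
  rw [quad_eq_gram, quad_eq_gram]
  conv_rhs => rw [← hA]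
  rw [← mulVec_mulVec, ← mulVec_mulVec, dotProduct_mulVec v Aᵀ, vecMul_transpose]

def opsOf (t : Fin 18) : List Op := opsList.getD t.val []

lemma opsOf_cube : ∀ t : Fin 18, run (opsOf t ++ opsOf t ++ opsOf t) one7 = one7 := by decide +kernel

lemma opsMat_cube (t : Fin 18) : opsMat (opsOf t) * (opsMat (opsOf t) * opsMat (opsOf t)) = 1 := by
  rw [← opsMat_append, ← opsMat_append, opsMat_eq, opsOf_cube t, mat_one]

def genMat (t : Fin 18) : Matrix I7 I7 (ZMod 3) := mat (run (opsOf t) one7)

lemma genMat_gram : ∀ t : Fin 18, (genMat t)ᵀ * gram * genMat t = gram := by decide +kernel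

/-- A root element as a unit. -/
def genGL (t : Fin 18) : GL I7 (ZMod 3) where
  val := genMat t
  inv := genMat t * genMat t
  val_inv := by simpa only [genMat, ← opsMat_eq] using opsMat_cube t
  inv_val := by simpa only [genMat, ← opsMat_eq, mul_assoc] using opsMat_cube t

def genO (t : Fin 18) : O7 := ⟨genGL t, fun u _ => quad_invariant (genMat_gram t) u⟩

def negPair (k : ℕ) : Matrix I7 I7 (ZMod 3) :=
  Matrix.diagonal fun i => if pos i = k ∨ pos i = k + 3 then 2 else 1

lemma negPair_sq : ∀ k < 4, negPair k * negPair k = 1 := by decide +kernel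

lemma negPair_gram : ∀ k < 4, 1 ≤ k → (negPair k)ᵀ * gram * negPair k = gram := by decide +kernel

def torOf (t : Fin 18) : ℕ := torList.getD t.val 1

lemma torOf_mem : ∀ t : Fin 18, 1 ≤ torOf t ∧ torOf t < 4 := by decide

lemma negPair_gen : ∀ t : Fin 18,
    negPair (torOf t) * genMat t = genMat t * genMat t * negPair (torOf t) := by decide +kernel

def negPairO (k : ℕ) (h1 : 1 ≤ k) (h4 : k < 4) : O7 :=
  ⟨⟨negPair k, negPair k, negPair_sq k h4, negPair_sq k h4⟩,
    fun u _ => quad_invariant (negPair_gram k h4 h1) u⟩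

lemma genO_mem (t : Fin 18) : genO t ∈ W7 := by
  let h := negPairO (torOf t) (torOf_mem t).1 (torOf_mem t).2
  have hc : h * genO t = genO t * genO t * h := Subtype.ext (Units.ext (negPair_gen t))
  have : ⁅h, genO t⁆ = genO t := by
    rw [commutatorElement_def, hc]
    group
  exact this ▸ Subgroup.commutator_mem_commutator (Subgroup.mem_top _) (Subgroup.mem_top _)

/-- A root element of `Ω`. -/
def gen (t : Fin 18) : W7 := ⟨genO t, genO_mem t⟩

/-- The matrix of an element of `Ω`. -/
def toMat : ↥W7 →* Matrix I7 I7 (ZMod 3) :=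
  (Units.coeHom _).comp ((O7.subtype).comp W7.subtype)

lemma toMat_injective : Function.Injective toMat := fun a b h => Subtype.ext (Subtype.ext (Units.ext h))

/-- The product of a word of root elements. -/
def ev : List (Fin 18) → ↥W7
  | [] => 1
  | t :: w => gen t * ev w

lemma ev_append : ∀ a b : List (Fin 18), ev (a ++ b) = ev a * ev b
  | [], b => by simp [ev]
  | t :: a, b => by simp [ev, ev_append a b, mul_assoc]

def wordOps : List (Fin 18) → List Op
  | [] => []
  | t :: w => wordOps w ++ opsOf t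

def wordMat (w : List (Fin 18)) : M7 := run (wordOps w) one7

lemma toMat_ev (w : List (Fin 18)) : toMat (ev w) = mat (wordMat w) := by
  rw [wordMat, ← opsMat_eq]
  induction w with
  | nil => simp [ev, wordOps, opsMat]
  | cons t w ih =>
    rw [ev, map_mul, ih, wordOps, opsMat_append]
    congr 1
    exact (opsMat_eq _).symm

lemma ev_eq_ev {a b : List (Fin 18)} (h : wordMat a = wordMat b) : ev a = ev b :=
  toMat_injective (by rw [toMat_ev, toMat_ev, h])

lemma ev_ne_ev {a b : List (Fin 18)} (i j : I7)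
    (h : rval (row (wordMat a) (pos i)) (pos j) ≠ rval (row (wordMat b) (pos i)) (pos j)) :
    ev a ≠ ev b := fun he => h (by
      rw [← mat_apply, ← mat_apply, ← toMat_ev, ← toMat_ev, he])

end Cfsg.Agent.Components.OmegaSeven
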