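import Cfsg.Agent.Lib.Components.OmegaSeven.Pc
import Cfsg.Agent.Lib.Classical.OmegaCrit
import Cfsg.Agent.Lib.Classical.Linear
import Cfsg.Prelude.Def_ClassicalGeometry

/-!
The spinor norm on the stabilizer of a totally singular three-space in dimension seven.
-/

set_option autoImplicit false
set_option linter.unusedSimpArgs false
set_option maxHeartbeats 2000000

namespace Cfsg.Agent.Components.OmegaSeven

open Cfsg.Agent.Classical Matrix

/-- The coordinates as `Fin 7`. -/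
def e7 : Fin 7 ≃ I7 where
  toFun k := ix k.val
  invFun i := ⟨pos i, pos_lt i⟩
  left_inv k := Fin.ext (pos_ix k.val k.isLt)
  right_inv i := pos_injective _ _ (pos_ix _ (pos_lt i))

/-- The matrix of an isometry in coordinates `Fin 7`. -/
def mat7 (g : O7) : Matrix (Fin 7) (Fin 7) (ZMod 3) :=
  ((g : GL I7 (ZMod 3)) : Matrix I7 I7 (ZMod 3)).submatrix e7 e7

lemma mat7_mul (g h : O7) : mat7 (g * h) = mat7 g * mat7 h :=
  (Matrix.submatrix_mul_equiv _ _ _ e7 _).symm

lemma mat7_injective : Function.Injective mat7 := fun g h hgh => by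
  refine Subtype.ext (Units.ext ?_)
  ext i j
  have := congrFun₂ hgh (e7.symm i) (e7.symm j)
  simpa [mat7] using this

lemma mat7_one : mat7 1 = 1 := Matrix.submatrix_one_equiv e7

/-- The Gram matrix in coordinates `Fin 7`. -/
def gram7 : Matrix (Fin 7) (Fin 7) (ZMod 3) :=
  !![2, 0, 0, 0, 0, 0, 0; 0, 0, 0, 0, 1, 0, 0; 0, 0, 0, 0, 0, 1, 0; 0, 0, 0, 0, 0, 0, 1;
     0, 1, 0, 0, 0, 0, 0; 0, 0, 1, 0, 0, 0, 0; 0, 0, 0, 1, 0, 0, 0]

lemma gram_submatrix : gram.submatrix e7 e7 = gram7 := by decide +kernel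

lemma gram_symm : gram.transpose = gram := by decide +kernel

lemma gram_inv (g : O7) : (mat7 g)ᵀ * gram7 * mat7 g = gram7 := by
  have h : ((g : GL I7 (ZMod 3)) : Matrix I7 I7 (ZMod 3))ᵀ * gram *
      ((g : GL I7 (ZMod 3)) : Matrix I7 I7 (ZMod 3)) = gram := by
    set A := ((g : GL I7 (ZMod 3)) : Matrix I7 I7 (ZMod 3))
    have hs : ∀ i j : I7, gram i j = gram j i := fun i j => congrFun₂ gram_symm j i
    have hq : ∀ v, v ⬝ᵥ ((Aᵀ * gram * A) *ᵥ v) = v ⬝ᵥ (gram *ᵥ v) := fun v => by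
      have h := g.2 v v
      simp only [quad_eq_gram] at h
      rw [← mulVec_mulVec, ← mulVec_mulVec, dotProduct_mulVec v Aᵀ, vecMul_transpose]
      exact mul_left_cancel₀ (by decide) h
    have key : ∀ S : Matrix I7 I7 (ZMod 3), ∀ a b, (Pi.single a 1 + Pi.single b 1) ⬝ᵥ
        (S *ᵥ (Pi.single a 1 + Pi.single b 1)) = S a a + S a b + (S b a + S b b) := fun S a b => by
      simp [mulVec_add, add_dotProduct, dotProduct_add]
      ring
    have diag : ∀ S : Matrix I7 I7 (ZMod 3), ∀ a, Pi.single a (1 : ZMod 3) ⬝ᵥ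
        (S *ᵥ Pi.single a 1) = S a a := fun S a => by simp
    have hsym : ∀ a b, (Aᵀ * gram * A) a b = (Aᵀ * gram * A) b a := fun a b => by
      have : (Aᵀ * gram * A)ᵀ = Aᵀ * gram * A := by
        rw [transpose_mul, transpose_mul, transpose_transpose,
          gram_symm, Matrix.mul_assoc]
      exact (congrFun₂ this b a)
    ext a b
    have ha := hq (Pi.single a 1)
    have hb := hq (Pi.single b 1)
    have hab := hq (Pi.single a 1 + Pi.single b 1)
    rw [diag, diag] at ha hb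
    rw [key, key, ha, hb, ← hsym a b, hs b a] at hab
    refine mul_left_cancel₀ (show (2 : ZMod 3) ≠ 0 by decide) ?_
    linear_combination hab
  unfold mat7
  rw [← gram_submatrix, transpose_submatrix, submatrix_mul_equiv, submatrix_mul_equiv, h]

lemma oddQ_coe : (⇑Q7 : (I7 → ZMod 3) → ZMod 3) = Cfsg.quadFormOdd 3 (ZMod 3) := OrthForms.oddQ_eq 3

/-- The identification with the isometry group of the bundled form. -/
noncomputable def toQ : O7 ≃* Cfsg.isometryGroup (ZMod 3) ⇑Q7 :=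
  MulEquiv.subgroupCongr (by rw [oddQ_coe])

/-- Parity and spinor norm. -/
noncomputable def spinor : O7 →* ℤˣ × ℤˣ :=
  (OmegaCrit.theta (Q := Q7) (OrthForms.oddQ_nondeg (by decide) 3) (Or.inl (by simp))).comp
    toQ.toMonoidHom

lemma spinor_W7 (g : ↥W7) : spinor (g : O7) = 1 :=
  Abelianization.commutator_subset_ker spinor g.2

lemma spinor_cube {g : O7} (h : g * (g * g) = 1) : spinor g = 1 := by
  have h1 : spinor g * (spinor g * spinor g) = 1 := by rw [← map_mul, ← map_mul, h, map_one]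
  have h2 : spinor g * spinor g = 1 := Prod.ext (Int.units_mul_self _) (Int.units_mul_self _)
  rwa [h2, mul_one] at h1

lemma det_mat7 (g : O7) : (mat7 g).det = (((spinor g).1 : ℤ) : ZMod 3) := by
  rw [mat7, det_submatrix_equiv_self]
  exact OmegaCrit.det_eq_par (Q := Q7) (OrthForms.oddQ_nondeg (by decide) 3) (Or.inl (by simp)) (toQ g)

/-- The matrix of a Levi element. -/
def levMat (A B : Matrix (Fin 3) (Fin 3) (ZMod 3)) : Matrix (Fin 7) (Fin 7) (ZMod 3) :=
  !![1, 0, 0, 0, 0, 0, 0;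
     0, A 0 0, A 0 1, A 0 2, 0, 0, 0; 0, A 1 0, A 1 1, A 1 2, 0, 0, 0; 0, A 2 0, A 2 1, A 2 2, 0, 0, 0;
     0, 0, 0, 0, B 0 0, B 0 1, B 0 2; 0, 0, 0, 0, B 1 0, B 1 1, B 1 2; 0, 0, 0, 0, B 2 0, B 2 1, B 2 2]

lemma levMat_mul (A B A' B' : Matrix (Fin 3) (Fin 3) (ZMod 3)) :
    levMat A B * levMat A' B' = levMat (A * A') (B * B') := by
  ext i j
  fin_cases i <;> fin_cases j <;>
    simp [levMat, Matrix.mul_apply, Fin.sum_univ_seven, Fin.sum_univ_three]

lemma levMat_one : levMat 1 1 = 1 := by decide +kernel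

lemma levMat_transpose (A B : Matrix (Fin 3) (Fin 3) (ZMod 3)) :
    (levMat A B)ᵀ = levMat Aᵀ Bᵀ := by
  ext i j
  fin_cases i <;> fin_cases j <;> simp [levMat, Matrix.transpose_apply]

lemma levMat_gram (A B : Matrix (Fin 3) (Fin 3) (ZMod 3)) :
    gram7 * levMat A B = levMat B A * gram7 := by
  ext i j
  fin_cases i <;> fin_cases j <;> simp [levMat, gram7, Matrix.mul_apply, Fin.sum_univ_seven]

/-- Three by three matrices. -/
abbrev Mat3 : Type := Matrix (Fin 3) (Fin 3) (ZMod 3)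

lemma val_mul (A B : SpecialLinearGroup (Fin 3) (ZMod 3)) :
    (↑(A * B) : Mat3) = (A : Mat3) * (B : Mat3) := rfl

lemma val_mul_inv (A : SpecialLinearGroup (Fin 3) (ZMod 3)) :
    (A : Mat3) * (↑A⁻¹ : Mat3) = 1 := congrArg Subtype.val (mul_inv_cancel A)

lemma val_inv_mul (A : SpecialLinearGroup (Fin 3) (ZMod 3)) :
    (↑A⁻¹ : Mat3) * (A : Mat3) = 1 := congrArg Subtype.val (inv_mul_cancel A)

lemma levMat_gram_submatrix (A : SpecialLinearGroup (Fin 3) (ZMod 3)) :
    ((levMat (A : Mat3) (↑A⁻¹ : Mat3)ᵀ).submatrix e7.symm e7.symm)ᵀ * gram *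
      (levMat (A : Mat3) (↑A⁻¹ : Mat3)ᵀ).submatrix e7.symm e7.symm = gram := by
  have hg : gram = gram7.submatrix e7.symm e7.symm := by
    rw [← gram_submatrix]
    simp
  rw [hg, transpose_submatrix, submatrix_mul_equiv, submatrix_mul_equiv, levMat_transpose,
    transpose_transpose, Matrix.mul_assoc, levMat_gram, ← Matrix.mul_assoc, levMat_mul,
    ← transpose_mul, val_inv_mul, transpose_one, levMat_one, Matrix.one_mul]

/-- The Levi element of a matrix of determinant one. -/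
def lev : SpecialLinearGroup (Fin 3) (ZMod 3) →* O7 :=
  MonoidHom.mk' (fun A =>
    ⟨⟨(levMat (A : Mat3) (↑A⁻¹ : Mat3)ᵀ).submatrix e7.symm e7.symm, (levMat (↑A⁻¹ : Mat3) (A : Mat3)ᵀ).submatrix e7.symm e7.symm,
      by rw [submatrix_mul_equiv, levMat_mul, ← transpose_mul, val_mul_inv, transpose_one, levMat_one, submatrix_one_equiv],
      by rw [submatrix_mul_equiv, levMat_mul, ← transpose_mul, val_inv_mul, transpose_one, levMat_one, submatrix_one_equiv]⟩,
    fun u _ => quad_invariant (levMat_gram_submatrix A) u⟩)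
    fun A A' => Subtype.ext (Units.ext (by
      show (levMat (↑(A * A') : Mat3) (↑(A * A')⁻¹ : Mat3)ᵀ).submatrix e7.symm e7.symm = _
      rw [_root_.mul_inv_rev, val_mul, val_mul, transpose_mul,
        ← levMat_mul, ← submatrix_mul_equiv _ _ _ e7.symm]
      rfl))

lemma spinor_lev (A : SpecialLinearGroup (Fin 3) (ZMod 3)) : spinor (lev A) = 1 := by
  have h : A ∈ commutator (SpecialLinearGroup (Fin 3) (ZMod 3)) := by
    rw [Classical.Linear.commutator_SL_eq_top (by simp)]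
    exact Subgroup.mem_top A
  exact Abelianization.commutator_subset_ker (spinor.comp lev) h

lemma mat7_lev (A : SpecialLinearGroup (Fin 3) (ZMod 3)) :
    mat7 (lev A) = levMat (A : Mat3) (↑A⁻¹ : Mat3)ᵀ := by
  ext i j
  simp [mat7, lev]

/-- The block on the totally singular space. -/
def blockX (N : Matrix (Fin 7) (Fin 7) (ZMod 3)) : Matrix (Fin 3) (Fin 3) (ZMod 3) :=
  !![N 1 1, N 1 2, N 1 3; N 2 1, N 2 2, N 2 3; N 3 1, N 3 2, N 3 3]

/-- The isometries of determinant one inducing determinant one on the totally singular space. -/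
theorem spinor_parabolic (g : O7) (hx : ∀ r : Fin 7, (r = 0 ∨ 4 ≤ r.val) → mat7 g r 1 = 0 ∧
      mat7 g r 2 = 0 ∧ mat7 g r 3 = 0)
    (hz : ∀ r : Fin 7, 4 ≤ r.val → mat7 g r 0 = 0)
    (hdet : (spinor g).1 = 1) (hA : (blockX (mat7 g)).det = 1) :
    spinor g = 1 ∧ mat7 g 0 0 = 1 := by
  set A : SpecialLinearGroup (Fin 3) (ZMod 3) := ⟨blockX (mat7 g), hA⟩
  set c := lev A⁻¹ * g
  have hc : spinor c = spinor g := by rw [map_mul, spinor_lev, one_mul]
  rw [← hc] at hdet ⊢
  set N := mat7 g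
  obtain ⟨x01, x02, x03⟩ := hx 0 (Or.inl rfl)
  obtain ⟨x41, x42, x43⟩ := hx 4 (Or.inr (by decide))
  obtain ⟨x51, x52, x53⟩ := hx 5 (Or.inr (by decide))
  obtain ⟨x61, x62, x63⟩ := hx 6 (Or.inr (by decide))
  have z4 := hz 4 (by decide)
  have z5 := hz 5 (by decide)
  have z6 := hz 6 (by decide)
  have hC : mat7 c = levMat (↑A⁻¹ : Mat3) (A : Mat3)ᵀ * N := by
    rw [mat7_mul, mat7_lev, inv_inv]
  have hinv : ∀ a b, ((↑A⁻¹ : Mat3) * (A : Mat3)) a b = (1 : Matrix (Fin 3) (Fin 3) (ZMod 3)) a b := fun a b => by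
    rw [val_inv_mul]
  have horth : ∀ a b, (Nᵀ * gram7 * N) a b = gram7 a b := fun a b => congrFun₂ (gram_inv g) a b
  obtain ⟨C, hCdef⟩ : ∃ C, C = mat7 c := ⟨_, rfl⟩
  have e : ∀ i j, C i j = (levMat (↑A⁻¹ : Mat3) (A : Mat3)ᵀ * N) i j := fun i j => by rw [hCdef, hC]
  have hblock : ∀ i j : Fin 7, (i = 0 ∨ 4 ≤ i.val) → (1 ≤ j.val ∧ j.val ≤ 3) → C i j = 0 := by
    intro i j hi hj
    rw [e]
    fin_cases i <;> fin_cases j <;>
      first
      | (exfalso; revert hi hj; decide)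
      | simp [levMat, Matrix.mul_apply, Fin.sum_univ_seven, x01, x02, x03, x41, x42, x43, x51, x52,
          x53, x61, x62, x63]
  have hzero : ∀ i : Fin 7, 4 ≤ i.val → C i 0 = 0 := by
    intro i hi
    rw [e]
    fin_cases i <;>
      first
      | (exfalso; revert hi; decide)
      | simp [levMat, Matrix.mul_apply, Fin.sum_univ_seven, z4, z5, z6]
  have hX : ∀ a b : Fin 3, C ⟨a.val + 1, by omega⟩ ⟨b.val + 1, by omega⟩ =
      (1 : Matrix (Fin 3) (Fin 3) (ZMod 3)) a b := by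
    intro a b
    rw [e, ← hinv a b]
    fin_cases a <;> fin_cases b <;>
      simp [levMat, Matrix.mul_apply, Fin.sum_univ_seven, Fin.sum_univ_three, x01, x02, x03, x41,
        x42, x43, x51, x52, x53, x61, x62, x63, A, blockX, N]
  have hY : ∀ a b : Fin 3, C ⟨a.val + 4, by omega⟩ ⟨b.val + 4, by omega⟩ =
      (1 : Matrix (Fin 3) (Fin 3) (ZMod 3)) a b := by
    intro a b
    have h := horth ⟨a.val + 1, by omega⟩ ⟨b.val + 4, by omega⟩
    rw [e]
    fin_cases a <;> fin_cases b <;>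
      simp [Matrix.mul_apply, Fin.sum_univ_seven, gram7, x01, x02, x03, x41, x42, x43, x51, x52,
        x53, x61, x62, x63] at h <;>
      simp [levMat, Matrix.mul_apply, Fin.sum_univ_seven, z4, z5, z6, A, blockX, N] <;>
      linear_combination h
  have f11 : C 1 1 = 1 := hX 0 0
  have f12 : C 1 2 = 0 := hX 0 1
  have f13 : C 1 3 = 0 := hX 0 2
  have f21 : C 2 1 = 0 := hX 1 0
  have f22 : C 2 2 = 1 := hX 1 1
  have f23 : C 2 3 = 0 := hX 1 2
  have f31 : C 3 1 = 0 := hX 2 0
  have f32 : C 3 2 = 0 := hX 2 1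
  have f33 : C 3 3 = 1 := hX 2 2
  have f44 : C 4 4 = 1 := hY 0 0
  have f45 : C 4 5 = 0 := hY 0 1
  have f46 : C 4 6 = 0 := hY 0 2
  have f54 : C 5 4 = 0 := hY 1 0
  have f55 : C 5 5 = 1 := hY 1 1
  have f56 : C 5 6 = 0 := hY 1 2
  have f64 : C 6 4 = 0 := hY 2 0
  have f65 : C 6 5 = 0 := hY 2 1
  have f66 : C 6 6 = 1 := hY 2 2
  have g01 := hblock 0 1 (Or.inl rfl) (by decide)
  have g02 := hblock 0 2 (Or.inl rfl) (by decide)
  have g03 := hblock 0 3 (Or.inl rfl) (by decide)
  have g41 := hblock 4 1 (Or.inr (by decide)) (by decide)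
  have g42 := hblock 4 2 (Or.inr (by decide)) (by decide)
  have g43 := hblock 4 3 (Or.inr (by decide)) (by decide)
  have g51 := hblock 5 1 (Or.inr (by decide)) (by decide)
  have g52 := hblock 5 2 (Or.inr (by decide)) (by decide)
  have g53 := hblock 5 3 (Or.inr (by decide)) (by decide)
  have g61 := hblock 6 1 (Or.inr (by decide)) (by decide)
  have g62 := hblock 6 2 (Or.inr (by decide)) (by decide)
  have g63 := hblock 6 3 (Or.inr (by decide)) (by decide)
  have g40 := hzero 4 (by decide)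
  have g50 := hzero 5 (by decide)
  have g60 := hzero 6 (by decide)
  have h00 : C 0 0 = 1 := by
    let σ : Equiv.Perm (Fin 7) := ⟨![1, 2, 3, 0, 4, 5, 6], ![3, 0, 1, 2, 4, 5, 6],
      by decide, by decide⟩
    have hu : (C.submatrix σ σ).BlockTriangular id := by
      intro i j hij
      fin_cases i <;> fin_cases j <;>
        first
        | (exfalso; revert hij; decide)
        | simp [σ, f21, f31, f32, f54, f64, f65, g01, g02, g03, g40, g41, g42, g43, g50, g51, g52,
            g53, g60, g61, g62, g63]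
    have hd : C.det = 1 := by
      rw [hCdef, det_mat7, hdet]
      simp
    rw [← det_submatrix_equiv_self σ, det_of_isUpperTriangular hu, Fin.prod_univ_seven] at hd
    simpa [σ, f11, f22, f33, f44, f55, f66] using hd
  have hn : (C - 1) * ((C - 1) * (C - 1)) = 0 := by
    ext i j
    fin_cases i <;> fin_cases j <;>
      simp [Matrix.mul_apply, Fin.sum_univ_seven, h00, f11, f12, f13, f21, f22, f23, f31, f32, f33,
        f44, f45, f46, f54, f55, f56, f64, f65, f66, g01, g02, g03, g40, g41, g42, g43, g50, g51,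
        g52, g53, g60, g61, g62, g63]
  refine ⟨spinor_cube (mat7_injective ?_), ?_⟩
  swap
  · rw [e] at h00
    simpa [levMat, Matrix.mul_apply, Fin.sum_univ_seven] using h00
  rw [mat7_mul c (c * c), mat7_mul c c, mat7_one, ← hCdef]
  have h3 : ∀ Y : Matrix (Fin 7) (Fin 7) (ZMod 3), (3 : ℕ) • Y = 0 := fun Y => by
    ext i j
    rw [Matrix.smul_apply, nsmul_eq_mul]
    rw [show ((3 : ℕ) : ZMod 3) = 0 from rfl, zero_mul, Matrix.zero_apply]
  calc C * (C * C) = (C - 1) * ((C - 1) * (C - 1)) + (3 : ℕ) • (C * C - C) + 1 := by noncomm_ring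
    _ = 1 := by rw [hn, h3, zero_add, zero_add]

end Cfsg.Agent.Components.OmegaSeven
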