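import Cfsg.Agent.Lib.Components.OmegaSeven.Tree
import Cfsg.Agent.Lib.Components.OmegaSeven.Parabolic

/-!
The seven representatives are not conjugate, also up to squaring.
-/

set_option autoImplicit false
set_option linter.unusedSimpArgs false
set_option maxHeartbeats 2000000

namespace Cfsg.Agent.Components.OmegaSeven

open Cfsg.Agent.Classical Matrix

/-- Seven coordinates. -/
abbrev V7 : Type := ZMod 3 × ZMod 3 × ZMod 3 × ZMod 3 × ZMod 3 × ZMod 3 × ZMod 3

def v7Fun : V7 → (I7 → ZMod 3)
  | (a, b, c, d, e, f, g) => fun i => [a, b, c, d, e, f, g].getD (pos i) 0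

def v7Equiv : V7 ≃ (I7 → ZMod 3) where
  toFun := v7Fun
  invFun v := (v (ix 0), v (ix 1), v (ix 2), v (ix 3), v (ix 4), v (ix 5), v (ix 6))
  left_inv := fun _ => rfl
  right_inv v := by
    funext i
    rcases i with u | (k | k)
    · rfl
    · fin_cases k <;> rfl
    · fin_cases k <;> rfl

/-- The number of singular fixed vectors and of fixed vectors of value one. -/
noncomputable def fixCount (c : ZMod 3) (A : Matrix I7 I7 (ZMod 3)) : ℕ :=
  Nat.card {v : I7 → ZMod 3 // A *ᵥ v = v ∧ Cfsg.quadFormOdd 3 (ZMod 3) v = c}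

lemma fixCount_eq (c : ZMod 3) (A : Matrix I7 I7 (ZMod 3)) : fixCount c A =
    (Finset.univ.filter fun p : V7 =>
      A *ᵥ v7Fun p = v7Fun p ∧ Cfsg.quadFormOdd 3 (ZMod 3) (v7Fun p) = c).card := by
  rw [fixCount, ← Nat.card_congr ((v7Equiv).subtypeEquiv fun p => Iff.rfl),
    Nat.card_eq_fintype_card, Fintype.card_subtype]
  rfl

lemma toMat_isometry (g : ↥W7) (v : I7 → ZMod 3) :
    Cfsg.quadFormOdd 3 (ZMod 3) (toMat g *ᵥ v) = Cfsg.quadFormOdd 3 (ZMod 3) v :=
  (g : O7).2 v v

lemma fixCount_conj (c : ZMod 3) (g x : ↥W7) :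
    fixCount c (toMat (g * x * g⁻¹)) = fixCount c (toMat x) := by
  have h1 : toMat g * toMat g⁻¹ = 1 := by rw [← map_mul, mul_inv_cancel, map_one]
  have h2 : toMat g⁻¹ * toMat g = 1 := by rw [← map_mul, inv_mul_cancel, map_one]
  refine (Nat.card_congr (Equiv.subtypeEquiv
    ⟨fun v => toMat g *ᵥ v, fun v => toMat g⁻¹ *ᵥ v, fun v => by simp [h2], fun v => by simp [h1]⟩
    fun v => ?_)).symm
  simp only [Equiv.coe_fn_mk, toMat_isometry, map_mul, ← mulVec_mulVec]
  rw [mulVec_mulVec v (toMat g⁻¹) (toMat g), h2, one_mulVec]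
  refine and_congr_left' ⟨fun h => by rw [h], fun h => ?_⟩
  have := congrArg (toMat g⁻¹ *ᵥ ·) h
  simp only [mulVec_mulVec, ← Matrix.mul_assoc, h2, Matrix.one_mul, one_mulVec] at this
  simpa only [mulVec_mulVec] using this

lemma fixCount_sq (c : ZMod 3) (x : ↥W7) (h : x ^ 3 = 1) :
    fixCount c (toMat (x * x)) = fixCount c (toMat x) := by
  have h3 : toMat x * (toMat x * toMat x) = 1 := by
    rw [← map_mul, ← map_mul, ← map_one toMat, ← h]
    simp [pow_succ, mul_assoc]
  refine Nat.card_congr (Equiv.subtypeEquivRight fun v => and_congr_left' ?_)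
  rw [map_mul]
  constructor
  · intro hv
    have := congrArg (toMat x *ᵥ ·) hv
    simp only [mulVec_mulVec, h3, one_mulVec] at this
    exact this.symm
  · intro hv
    rw [← mulVec_mulVec, hv, hv]

lemma rep_cube : ∀ i : Fin 7, rep i ^ 3 = 1 := by
  intro i
  have h : wordMat (repList.getD i.val [] ++ (repList.getD i.val [] ++ repList.getD i.val [])) =
      wordMat [] := by revert i; decide +kernel
  have := ev_eq_ev h
  simpa [rep, ev, ev_append, pow_succ, mul_assoc] using this

/-- The matrices of the representatives. -/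
def repRows : List M7 :=
  [[(1, 0), (2, 32), (20, 0), (8, 0), (16, 0), (32, 0), (64, 0)],
   [(17, 0), (3, 16), (4, 0), (8, 0), (16, 0), (32, 0), (64, 0)],
   [(17, 0), (3, 16), (4, 64), (40, 0), (16, 0), (32, 0), (64, 0)],
   [(17, 0), (3, 16), (68, 0), (8, 32), (16, 0), (32, 0), (64, 0)],
   [(1, 0), (82, 8), (4, 0), (8, 16), (16, 0), (32, 0), (80, 0)],
   [(1, 0), (2, 40), (4, 64), (40, 0), (16, 0), (32, 0), (80, 0)],
   [(33, 0), (2, 88), (5, 32), (24, 0), (16, 0), (32, 0), (80, 0)]]

lemma repRows_eq : ∀ i : Fin 7, wordMat (repList.getD i.val []) = repRows.getD i.val [] := by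
  decide +kernel

lemma rep_entry : ∀ i : Fin 7, ∃ a b : I7,
    rval (row (repRows.getD i.val []) (pos a)) (pos b) ≠ rval (row one7 (pos a)) (pos b) := by
  decide +kernel

lemma rep_ne_one (i : Fin 7) : rep i ≠ 1 := by
  obtain ⟨a, b, h⟩ := rep_entry i
  rw [← repRows_eq] at h
  exact ev_ne_ev (b := []) a b h

/-- A digit as a pair of bits. -/
def bit3 (a : ZMod 3) : ℕ × ℕ := (if a = 1 then 1 else 0, if a = 2 then 1 else 0)

/-- A vector as a matrix with one column. -/
def vecM : V7 → M7
  | (a, b, c, d, e, f, g) => [bit3 a, bit3 b, bit3 c, bit3 d, bit3 e, bit3 f, bit3 g]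

lemma rval_bit3 : ∀ a : ZMod 3, rval (bit3 a) 0 = a := by decide

lemma disj_bit3 (a : ZMod 3) : Disj (bit3 a) := by
  intro k h
  obtain ⟨h1, h2⟩ := h
  simp only [bit3] at h1 h2
  split_ifs at h1 with ha
  · subst ha
    rw [if_neg (by decide)] at h2
    simp at h2
  · simp at h1

lemma ok_vecM : ∀ p : V7, Ok (vecM p)
  | (a, b, c, d, e, f, g) => by
    refine ⟨rfl, fun k => ?_⟩
    rcases k with _ | _ | _ | _ | _ | _ | _ | k
    all_goals first
      | exact disj_bit3 _
      | exact disj_zero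

lemma mat_vecM : ∀ (p : V7) (i : I7), mat (vecM p) i (ix 0) = v7Fun p i
  | (a, b, c, d, e, f, g), i => by
    rw [mat_apply]
    rcases i with u | (k | k)
    · exact rval_bit3 a
    · fin_cases k <;> exact rval_bit3 _
    · fin_cases k <;> exact rval_bit3 _

/-- The first entry of a row as two flags. -/
def flag (r : ℕ × ℕ) : Bool × Bool := (r.1.testBit 0, !r.1.testBit 0 && r.2.testBit 0)

lemma flag_iff (r s : ℕ × ℕ) : rval r 0 = rval s 0 ↔ flag r = flag s := by
  simp only [rval, flag]
  cases r.1.testBit 0 <;> cases r.2.testBit 0 <;> cases s.1.testBit 0 <;> cases s.2.testBit 0 <;>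
    decide

/-- Whether a vector is fixed by a product of elementary operations. -/
def fixB (os : List Op) (p : V7) : Bool :=
  (List.range 7).all fun k => flag (row (run os (vecM p)) k) == flag (row (vecM p) k)

lemma fixB_iff (os : List Op) (p : V7) :
    opsMat os *ᵥ v7Fun p = v7Fun p ↔ fixB os p = true := by
  have key : ∀ i, (opsMat os *ᵥ v7Fun p) i = rval (row (run os (vecM p)) (pos i)) 0 := fun i => by
    have h := congrFun₂ (run_spec os (ok_vecM p)).2 i (ix 0)
    rw [mat_apply, Matrix.mul_apply] at h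
    simp only [mat_vecM] at h
    exact h.symm
  have key' : ∀ i, v7Fun p i = rval (row (vecM p) (pos i)) 0 := fun i => (mat_vecM p i).symm
  simp only [fixB, List.all_eq_true, List.mem_range, beq_iff_eq, ← flag_iff]
  constructor
  · intro h k hk
    have := congrFun h (ix k)
    rw [key, key', pos_ix k hk] at this
    exact this
  · intro h
    funext i
    rw [key, key']
    exact h _ (pos_lt i)

/-- The invariant of a representative. -/
def repInv (i : Fin 7) : ℕ × ℕ :=
  let os := wordOps (repList.getD i.val [])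
  ((Finset.univ.filter fun p : V7 =>
      fixB os p = true ∧ Cfsg.quadFormOdd 3 (ZMod 3) (v7Fun p) = 0).card,
   (Finset.univ.filter fun p : V7 =>
      fixB os p = true ∧ Cfsg.quadFormOdd 3 (ZMod 3) (v7Fun p) = 1).card)

def repInvList : List (ℕ × ℕ) :=
  [(81, 108), (99, 72), (27, 0), (27, 0), (63, 90), (9, 18), (9, 0)]

lemma repInv_val : ∀ i : Fin 7, repInv i = repInvList.getD i.val (0, 0) := by decide +kernel

lemma repInv_eq (i : Fin 7) :
    (fixCount 0 (toMat (rep i)), fixCount 1 (toMat (rep i))) = repInv i := by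
  have h : toMat (rep i) = opsMat (wordOps (repList.getD i.val [])) := by
    rw [rep, toMat_ev, wordMat, ← opsMat_eq]
  rw [fixCount_eq, fixCount_eq, h]
  simp only [fixB_iff]
  rfl

/-- The matrix of `rep 2`. -/
def matU : Matrix (Fin 7) (Fin 7) (ZMod 3) :=
  !![1, 0, 0, 0, 1, 0, 0; 1, 1, 0, 0, 2, 0, 0; 0, 0, 1, 0, 0, 0, 2; 0, 0, 0, 1, 0, 1, 0;
     0, 0, 0, 0, 1, 0, 0; 0, 0, 0, 0, 0, 1, 0; 0, 0, 0, 0, 0, 0, 1]

/-- The matrices of `rep 3` and of its square. -/
def matV (e : ZMod 3) : Matrix (Fin 7) (Fin 7) (ZMod 3) :=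
  !![1, 0, 0, 0, e, 0, 0; e, 1, 0, 0, 2, 0, 0; 0, 0, 1, 0, 0, 0, e; 0, 0, 0, 1, 0, 2 * e, 0;
     0, 0, 0, 0, 1, 0, 0; 0, 0, 0, 0, 0, 1, 0; 0, 0, 0, 0, 0, 0, 1]

lemma matU_eq : mat7 (rep 2 : O7) = matU := by
  have h : (mat (wordMat (repList.getD 2 []))).submatrix e7 e7 = matU := by decide +kernel
  rw [← h, ← toMat_ev]
  rfl

lemma matV_eq : mat7 (rep 3 : O7) = matV 1 ∧ mat7 ((rep 3 * rep 3 : ↥W7) : O7) = matV 2 := by
  have h : (mat (wordMat (repList.getD 3 []))).submatrix e7 e7 = matV 1 ∧
      (mat (wordMat (repList.getD 3 [] ++ repList.getD 3 []))).submatrix e7 e7 = matV 2 := by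
    decide +kernel
  rw [← h.1, ← h.2, ← toMat_ev, ← toMat_ev, ev_append]
  exact ⟨rfl, rfl⟩

/-- Two coordinates of the first pair negated. -/
def matH : Matrix (Fin 7) (Fin 7) (ZMod 3) := Matrix.diagonal ![1, 2, 1, 1, 2, 1, 1]

lemma matH_eq : mat7 (negPairO 1 le_rfl (by norm_num)) = matH := by
  show (negPair 1).submatrix e7 e7 = matH
  decide +kernel

lemma spinor_negPair : spinor (negPairO 1 le_rfl (by norm_num)) = (1, -1) := by
  let a : I7 → ZMod 3 := Pi.single (ix 1) 1 + Pi.single (ix 4) 1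
  let b : I7 → ZMod 3 := Pi.single (ix 1) 1 + Pi.single (ix 4) 2
  have qa : Q7 a = 1 := by rw [oddQ_coe]; decide +kernel
  have qb : Q7 b = 2 := by rw [oddQ_coe]; decide +kernel
  have hm : Cfsg.reflectionMatrix (Cfsg.quadFormOdd 3 (ZMod 3)) a *
      Cfsg.reflectionMatrix (Cfsg.quadFormOdd 3 (ZMod 3)) b = negPair 1 := by decide +kernel
  have he : toQ (negPairO 1 le_rfl (by norm_num)) =
      Forms.QuadStd.reflect Q7 a * Forms.QuadStd.reflect Q7 b := by
    refine Subtype.ext (Units.ext ?_)
    show negPair 1 = Cfsg.reflectionMatrix ⇑Q7 a * Cfsg.reflectionMatrix ⇑Q7 b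
    rw [oddQ_coe, hm]
  show OmegaCrit.theta (Q := Q7) (OrthForms.oddQ_nondeg (by decide) 3) (Or.inl (by simp)) (toQ _) = _
  rw [he, map_mul,
    OmegaCrit.theta_reflect (Q := Q7) (OrthForms.oddQ_nondeg (by decide) 3) (Or.inl (by simp)) (by rw [qa]; decide),
    OmegaCrit.theta_reflect (Q := Q7) (OrthForms.oddQ_nondeg (by decide) 3) (Or.inl (by simp)) (by rw [qb]; decide), qa, qb, OmegaCrit.chi_one,
    OmegaCrit.chi_eq_neg_one_iff.2 (by rintro ⟨r, hr⟩; revert hr; revert r; decide)]
  rfl

lemma no_conj_pair {e : ZMod 3} (he : e = 1 ∨ e = 2) (g : ↥W7) :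
    mat7 (g : O7) * matU ≠ matV e * mat7 (g : O7) := by
  intro heq
  set N := mat7 (g : O7) with hN
  have E : ∀ i k, (N * matU) i k = (matV e * N) i k := fun i k => congrFun₂ heq i k
  have O : ∀ i k, (Nᵀ * gram7 * N) i k = gram7 i k := fun i k => congrFun₂ (gram_inv _) i k
  have he2 : e * e = 1 := by rcases he with rfl | rfl <;> decide
  have h30 : (3 : ZMod 3) = 0 := by decide
  have he0 : e ≠ 0 := by rcases he with rfl | rfl <;> decide
  -- the lower left corner vanishes
  have E40 := E 4 0; have E45 := E 4 5; have E46 := E 4 6; have E44 := E 4 4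
  have E50 := E 5 0; have E55 := E 5 5; have E56 := E 5 6; have E54 := E 5 4
  have E60 := E 6 0; have E65 := E 6 5; have E66 := E 6 6; have E64 := E 6 4
  simp [matU, matV, Matrix.mul_apply, Fin.sum_univ_seven] at E40 E45 E46 E44 E50 E55 E56 E54 E60 E65 E66 E64
  have n41 : N 4 1 = 0 := by linear_combination E40
  have n51 : N 5 1 = 0 := by linear_combination E50
  have n61 : N 6 1 = 0 := by linear_combination E60
  have n43 : N 4 3 = 0 := by linear_combination E45
  have n53 : N 5 3 = 0 := by linear_combination E55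
  have n63 : N 6 3 = 0 := by linear_combination E65
  have h20 : (2 : ZMod 3) ≠ 0 := by decide
  have n42 : N 4 2 = 0 := E46.resolve_right h20
  have n52 : N 5 2 = 0 := E56.resolve_right h20
  have n62 : N 6 2 = 0 := E66.resolve_right h20
  have n40 : N 4 0 = 0 := by linear_combination E44 - 2 * n41
  have n50 : N 5 0 = 0 := by linear_combination E54 - 2 * n51
  have n60 : N 6 0 = 0 := by linear_combination E64 - 2 * n61
  have E00 := E 0 0; have E05 := E 0 5; have E06 := E 0 6; have E04 := E 0 4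
  simp [matU, matV, Matrix.mul_apply, Fin.sum_univ_seven, n40, n41, n42, n43] at E00 E05 E06 E04
  have n01 : N 0 1 = 0 := by linear_combination E00
  have E12 := E 1 2; have E13 := E 1 3; have E10 := E 1 0
  simp [matU, matV, Matrix.mul_apply, Fin.sum_univ_seven, n40, n41, n42, n43] at E12 E13 E10
  have n02 : N 0 2 = 0 := E12.resolve_left he0
  have n03 : N 0 3 = 0 := E13.resolve_left he0
  have E20 := E 2 0; have E25 := E 2 5; have E26 := E 2 6
  have E30 := E 3 0; have E35 := E 3 5; have E36 := E 3 6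
  simp [matU, matV, Matrix.mul_apply, Fin.sum_univ_seven, n40, n50, n60, n01, n02, n03] at E20 E25 E26 E30 E35 E36 E04 E05 E06 E10
  have O25 := O 2 5; have O14 := O 1 4
  simp [gram7, Matrix.mul_apply, Fin.sum_univ_seven, n01, n02, n03, n41, n42, n43, n51, n52, n53,
    n61, n62, n63] at O25 O14
  have hs1 : (spinor (g : O7)).1 = 1 := by rw [spinor_W7]; rfl
  -- the determinant of the first block
  have hdet : (blockX N).det = - N 0 0 := by
    rw [det_fin_three]
    simp [blockX]
    have n21 : N 2 1 = 0 := by linear_combination E20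
    have n31 : N 3 1 = 0 := by linear_combination E30
    have n11 : N 1 1 = e * N 0 0 := by linear_combination E10
    have n23 : N 2 3 = e * N 6 5 := by linear_combination E25
    have n33 : N 3 3 = 2 * e * N 5 5 := by linear_combination E35
    have O25' : N 2 2 * N 5 5 + N 3 2 * N 6 5 = 1 := by
      have n45 : N 4 5 = 0 := E05.resolve_left he0
      rw [n45] at O25
      linear_combination O25
    rw [n21, n31, n11, n23, n33]
    linear_combination (2 * N 0 0 * N 2 2 * N 5 5 - N 0 0 * N 6 5 * N 3 2) * he2 -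
      N 0 0 * O25' + N 0 0 * N 2 2 * N 5 5 * h30
  -- the isometry and its product with the negated pair
  have pat : ∀ r : Fin 7, (r = 0 ∨ 4 ≤ r.val) → N r 1 = 0 ∧ N r 2 = 0 ∧ N r 3 = 0 := by
    intro r hr
    fin_cases r <;>
      first
      | (exfalso; revert hr; decide)
      | exact ⟨n01, n02, n03⟩
      | exact ⟨n41, n42, n43⟩
      | exact ⟨n51, n52, n53⟩
      | exact ⟨n61, n62, n63⟩
  have pat0 : ∀ r : Fin 7, 4 ≤ r.val → N r 0 = 0 := by
    intro r hr
    fin_cases r <;>
      first
      | (exfalso; revert hr; decide)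
      | exact n40
      | exact n50
      | exact n60
  have O00 := O 0 0
  simp [gram7, Matrix.mul_apply, Fin.sum_univ_seven, n40, n50, n60] at O00
  have hsq : N 0 0 = 1 ∨ N 0 0 = 2 := by
    revert O00
    generalize N 0 0 = a
    revert a
    decide
  rcases hsq with n00 | n00
  · set h := negPairO 1 le_rfl (by norm_num)
    have hM : mat7 ((g : O7) * h) = N * matH := by rw [mat7_mul, matH_eq]
    have hsp : spinor ((g : O7) * h) = (1, -1) := by
      rw [map_mul, spinor_negPair, spinor_W7, one_mul]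
    have hp := (spinor_parabolic ((g : O7) * h)
      (fun r hr => by
        obtain ⟨a, b, c⟩ := pat r hr
        rw [hM]
        simp [matH, Matrix.mul_diagonal, a, b, c])
      (fun r hr => by
        rw [hM]
        simp [matH, Matrix.mul_diagonal, pat0 r hr])
      (by rw [hsp])
      (by
        rw [hM, det_fin_three]
        rw [det_fin_three, n00] at hdet
        simp [blockX, matH, Matrix.mul_diagonal] at hdet ⊢
        linear_combination 2 * hdet - h30)).1
    rw [hsp] at hp
    exact absurd hp (by decide)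
  · have hp := (spinor_parabolic (g : O7) pat pat0 hs1 (by rw [hdet, n00]; decide)).2
    rw [← hN, n00] at hp
    exact absurd hp (by decide)

end Cfsg.Agent.Components.OmegaSeven
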