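import Cfsg.Agent.Lib.Components.OmegaSeven.Gens

/-!
Tables for the unipotent radical of a Borel subgroup of `Ω₇(3)`.
-/

set_option autoImplicit false

namespace Cfsg.Agent.Components.OmegaSeven

/-- Words for the commutators of root elements. -/
def commList : List (List (List (Fin 18))) :=
  [[[], [2,2,3,3], [], [], [5], [], [], [8,8], []],
   [[2,3,3], [], [3], [], [], [6,7,7], [7], [], []],
   [[], [3,3], [], [], [6,8,8], [], [8], [], []],
   [[], [], [], [], [7], [8,8], [], [], []],
   [[5,5], [], [6,6,8,8], [7,7], [], [], [], [], []],
   [[], [6,6,7,7], [], [8], [], [], [], [], []],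
   [[], [7,7], [8,8], [], [], [], [], [], []],
   [[8], [], [], [], [], [], [], [], []],
   [[], [], [], [], [], [], [], [], []]]

/-- The seven representatives. -/
def repList : List (List (Fin 18)) :=
  [[8], [6], [6,3], [6,3,3], [5,7,7], [5,3], [5,2,7]]

/-- Codes of the images of one vector under the abelian radical. -/
def keysP : List ℕ :=
  [81,90,99,108,117,126,135,144,153,88,97,106,115,124,133,142,151,160,89,98,107,116,125,134,143,152,161,810,819,828,843,852,861,867,876,885,817,826,835,841,850,859,865,874,883,818,827,836,842,851,860,866,875,884,1539,1548,1557,1569,1578,1587,1599,1608,1617,1546,1555,1564,1567,1576,1585,1597,1606,1615,1547,1556,1565,1568,1577,1586,1598,1607,1616,324,339,345,351,366,372,378,393,399,331,337,343,358,364,370,385,391,397,332,338,344,359,365,371,386,392,398,1053,1068,1074,1086,1092,1098,1110,1116,1131,1060,1066,1072,1084,1090,1105,1108,1123,1129,1061,1067,1073,1085,1091,1106,1109,1124,1130,1782,1797,1803,1812,1818,1833,1842,1848,1854,1789,1795,1801,1810,1825,1831,1840,1846,1861,1790,1796,1802,1811,1826,1832,1841,1847,1862,567,579,591,594,606,618,621,633,645,574,577,589,601,604,616,628,631,643,575,578,590,602,605,617,629,632,644,1296,1308,1320,1329,1332,1344,1353,1365,1368,1303,1306,1318,1327,1339,1342,1351,1363,1375,1304,1307,1319,1328,1340,1343,1352,1364,1376,2025,2037,2049,2055,2067,2070,2085,2088,2100,2032,2035,2047,2053,2065,2077,2083,2095,2098,2033,2036,2048,2054,2066,2078,2084,2096,2099]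

/-- Codes of the images of two vectors under the Levi part. -/
def keysL : List ℕ :=
  [532170,591237,650277,573723,632790,691830,575910,634977,694017,532225,591292,650332,632827,691894,573787,694063,575983,635023,532226,591293,650333,691877,573797,632837,635015,694082,575975,2126493,2224926,2264283,2168046,2207430,2246787,2170233,2209617,2248974,2126557,2224963,2264347,2207476,2246833,2168119,2249029,2170288,2209672,2126558,2224964,2264348,2246843,2168102,2207486,2209664,2249021,2170307,3720816,3799566,3878289,3762369,3782070,3860793,3764556,3784257,3862980,3720889,3799612,3878335,3782125,3860848,3762424,3863044,3764620,3784294,3720890,3799613,3878336,3860858,3762434,3782108,3784313,3863036,3764612]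

end Cfsg.Agent.Components.OmegaSeven
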