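import Cfsg.Agent.Lib.Components.OmegaSeven.Pc

/-!
Certificate trees for the classes of elements of order three.
-/

set_option autoImplicit false

namespace Cfsg.Agent.Components.OmegaSeven

open Subgroup

/-- The representatives. -/
def rep (i : Fin 7) : ↥W7 := ev (repList.getD i.val [])

/-- Conjugate to a representative or to its square. -/
def Hit (x : ↥W7) : Prop := ∃ (i : Fin 7) (g : ↥W7), g * x * g⁻¹ = rep i ∨ g * x * g⁻¹ = rep i * rep i

/-- A certificate tree. -/
inductive Tree
  | one
  | bad (a b : ℕ)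
  | leaf (g : List (Fin 18)) (i : Fin 7) (sq : Bool)
  | br (t₀ t₁ t₂ : Tree)
  | sh (g h : List (Fin 18)) (sq : Bool) (t : Tree)

/-- The check of a certificate at the level `j` and the prefix `r`. -/
def Tree.check : Tree → ℕ → List (Fin 18) → Bool
  | .one, j, r => decide (j = 9) && decide (wordMat r = one7)
  | .bad a b, j, r => decide (j = 9) &&
      decide (rval (row (wordMat (r ++ r ++ r)) (pos (ix a))) (pos (ix b)) ≠
        rval (row (wordMat []) (pos (ix a))) (pos (ix b)))
  | .leaf g i sq, j, r => decide (j = 9) && decide (wordMat (g ++ r) =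
      wordMat ((if sq then repList.getD i.val [] ++ repList.getD i.val [] else repList.getD i.val []) ++ g))
  | .br t₀ t₁ t₂, j, r => decide (j < 9) && t₀.check (j + 1) r && t₁.check (j + 1) (r ++ [lz j]) &&
      t₂.check (j + 1) (r ++ [lz j, lz j])
  | .sh g h sq t, j, r => decide (j < 9) && g.all (fun s => decide (s.val < 9)) &&
      h.all (fun s => decide (j < s.val ∧ s.val < 9)) &&
      decide (wordMat (g ++ r) = wordMat (r ++ (if sq then [lz j, lz j] else [lz j]) ++ h ++ g)) &&
      t.check (j + 1) r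

/-- All elements of order three of the coset are hit. -/
def Good (j : ℕ) (r : ↥W7) : Prop := ∀ s ∈ H j, (r * s) ^ 3 = 1 → r * s ≠ 1 → Hit (r * s)

lemma hit_conj {x g : ↥W7} (h : Hit x) : Hit (g * x * g⁻¹) := by
  obtain ⟨i, c, hc⟩ := h
  exact ⟨i, c * g⁻¹, by simpa [mul_assoc] using hc⟩

lemma good_conj {j : ℕ} {r c : ↥W7} (hc : ∀ s ∈ H j, c⁻¹ * s * c ∈ H j) (h : Good j r) :
    Good j (c * r * c⁻¹) := by
  intro s hs h3 h1
  have e : c * r * c⁻¹ * s = c * (r * (c⁻¹ * s * c)) * c⁻¹ := by group
  rw [e] at h3 h1 ⊢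
  refine hit_conj (h _ (hc s hs) ?_ fun he => h1 (by rw [he, mul_one, mul_inv_cancel]))
  rw [conj_pow] at h3
  exact conj_eq_one_iff.mp h3

lemma good_mul {j : ℕ} {r w : ↥W7} (hw : w ∈ H j) (h : Good j (r * w)) : Good j r := by
  intro s hs h3 h1
  have e : r * s = r * w * (w⁻¹ * s) := by group
  rw [e] at h3 h1 ⊢
  exact h _ (mul_mem (inv_mem hw) hs) h3 h1

lemma good_of_three {j : ℕ} (hj : j < 9) {r : ↥W7} (h : ∀ e < 3, Good (j + 1) (r * gen (lz j) ^ e)) :
    Good j r := by
  intro s hs h3 h1
  obtain ⟨e, he, w, hw, rfl⟩ := exists_decomp hj hs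
  rw [← mul_assoc] at h3 h1 ⊢
  exact h e he w hw h3 h1

lemma inv_conj_ev_mem {j : ℕ} (g : List (Fin 18)) (hg : ∀ t ∈ g, t.val < 9) :
    ∀ s ∈ H j, (ev g)⁻¹ * s * ev g ∈ H j := by
  intro s hs
  have hn : ev g ∈ normalizer (H j : Set ↥W7) := by
    clear hs
    induction g with
    | nil => exact one_mem _
    | cons t g ih =>
      exact mul_mem (mem_normalizer_H j t (hg t List.mem_cons_self))
        (ih fun u hu => hg u (List.mem_cons_of_mem _ hu))
  exact (mem_normalizer_iff''.mp hn s).mp hs

theorem Tree.sound : ∀ (T : Tree) (j : ℕ) (r : List (Fin 18)), T.check j r = true → Good j (ev r)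
  | .one, j, r, h => by
    simp only [Tree.check, Bool.and_eq_true, decide_eq_true_eq] at h
    obtain ⟨rfl, h⟩ := h
    intro s hs _ h1
    rw [H_nine, Subgroup.mem_bot] at hs
    refine absurd ?_ h1
    rw [hs, mul_one, ev_eq_ev (b := []) h]
    rfl
  | .bad a b, j, r, h => by
    simp only [Tree.check, Bool.and_eq_true, decide_eq_true_eq] at h
    obtain ⟨rfl, h⟩ := h
    intro s hs h3 _
    rw [H_nine, Subgroup.mem_bot] at hs
    refine absurd ?_ (ev_ne_ev _ _ h)
    rw [hs, mul_one, pow_succ, pow_succ, pow_one] at h3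
    rw [ev_append, ev_append, h3]
    rfl
  | .leaf g i sq, j, r, h => by
    simp only [Tree.check, Bool.and_eq_true, decide_eq_true_eq] at h
    obtain ⟨rfl, h⟩ := h
    intro s hs _ _
    rw [H_nine, Subgroup.mem_bot] at hs
    rw [hs, mul_one]
    refine ⟨i, ev g, ?_⟩
    have e := ev_eq_ev h
    rw [ev_append, ev_append] at e
    cases sq
    · left
      simp [e, rep]
    · right
      simp only [if_true, ev_append] at e
      rw [e, rep]
      group
  | .br t₀ t₁ t₂, j, r, h => by
    simp only [Tree.check, Bool.and_eq_true, decide_eq_true_eq] at h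
    obtain ⟨⟨⟨hj, h0⟩, h1⟩, h2⟩ := h
    refine good_of_three hj fun e he => ?_
    have s0 := Tree.sound t₀ _ _ h0
    have s1 := Tree.sound t₁ _ _ h1
    have s2 := Tree.sound t₂ _ _ h2
    simp only [ev_append, ev, mul_one] at s1 s2
    interval_cases e
    · simpa using s0
    · simpa using s1
    · simpa [pow_two] using s2
  | .sh g h' sq t, j, r, h => by
    simp only [Tree.check, Bool.and_eq_true, decide_eq_true_eq, List.all_eq_true] at h
    obtain ⟨⟨⟨⟨hj, hg⟩, hh⟩, heq⟩, ht⟩ := h
    have hz : (lz j).val = j := Nat.mod_eq_of_lt (by omega)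
    have s0 := Tree.sound t _ _ ht
    have hw : ev h' ∈ H (j + 1) := ev_mem _ fun u hu => ⟨(hh u hu).1, (hh u hu).2⟩
    set z := gen (lz j) ^ (if sq then 2 else 1) with hzdef
    have e : ev g * ev r * (ev g)⁻¹ = ev r * z * ev h' := by
      have e := ev_eq_ev heq
      rw [ev_append, ev_append, ev_append, ev_append] at e
      rw [e, mul_inv_cancel_right, hzdef]
      cases sq <;> simp [ev, pow_two]
    have hn := inv_conj_ev_mem (j := j + 1) g hg
    have g1 : Good (j + 1) (ev r * z) := good_mul hw (e ▸ good_conj hn s0)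
    have hzc : ∃ w ∈ H (j + 1), ev g * z * (ev g)⁻¹ = z * w := by
      obtain ⟨w, hw', hwe⟩ := conj_ev_gen (lz j) (by omega) g hg
      rw [hz] at hw'
      cases sq
      · exact ⟨w, hw', by simpa [hzdef] using hwe⟩
      · refine ⟨(gen (lz j))⁻¹ * w * gen (lz j) * w, mul_mem ?_ hw', ?_⟩
        · exact (mem_normalizer_iff''.mp (mem_normalizer_H _ _ (by omega)) _).mp hw'
        · simp only [hzdef, if_true, pow_two]
          rw [show ev g * (gen (lz j) * gen (lz j)) * (ev g)⁻¹ =
            (ev g * gen (lz j) * (ev g)⁻¹) * (ev g * gen (lz j) * (ev g)⁻¹) by group, hwe]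
          group
    obtain ⟨w, hw', hwe⟩ := hzc
    have g2 : Good (j + 1) (ev r * z * z) := by
      have hmem : z⁻¹ * ev h' * z ∈ H (j + 1) :=
        (mem_normalizer_iff''.mp (pow_mem (mem_normalizer_H _ _ (by omega)) _) _).mp hw
      refine good_mul (mul_mem hmem hw') ?_
      have : ev g * (ev r * z) * (ev g)⁻¹ = ev r * z * z * (z⁻¹ * ev h' * z * w) := by
        rw [show ev g * (ev r * z) * (ev g)⁻¹ = (ev g * ev r * (ev g)⁻¹) * (ev g * z * (ev g)⁻¹) by
          group, e, hwe]
        group
      exact this ▸ good_conj hn g1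
    have h3 : gen (lz j) ^ 3 = 1 := gen_cube _
    refine good_of_three hj fun k hk => ?_
    interval_cases k
    · simpa using s0
    · cases sq
      · simpa [hzdef] using g1
      · have : ev r * z * z = ev r * gen (lz j) ^ 1 := by
          rw [hzdef, if_pos rfl, mul_assoc, ← pow_add, pow_succ _ 3, h3, one_mul, pow_one]
        exact this ▸ g2
    · cases sq
      · have : ev r * z * z = ev r * gen (lz j) ^ 2 := by
          simp [hzdef, mul_assoc, pow_two]
        exact this ▸ g2
      · simpa [hzdef] using g1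

end Cfsg.Agent.Components.OmegaSeven
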