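import Cfsg.Agent.Lib.Components.OmegaSeven.Tree

/-!
Certificates for the classes of elements of order three in a Sylow `3`-subgroup of `Ω₇(3)`.
-/

set_option autoImplicit false

namespace Cfsg.Agent.Components.OmegaSeven

open Cfsg.Agent.Components.OmegaSeven.Tree

def tree0 : Tree :=
  (.br (.br (.br (.br (.br (.br (.br (.br (.br .one (.leaf [] 0 false) (.leaf [] 0 true)) (.sh [0] [] true (.leaf [0,9,9,0,0] 0 false)) (.sh [0] [] false (.leaf [0,9,0] 0 false))) (.sh [1] [] false (.sh [2,3,3] [] false (.leaf [] 1 false))) (.sh [1] [] true (.sh [2,3,3] [] true (.leaf [] 1 true)))) (.sh [1] [7,7] false (.br (.sh [3] [] true (.leaf [12,12,3,3] 0 false)) (.sh [3] [] true (.leaf [1,1,1,10,10,1] 1 false)) (.sh [3] [] true (.leaf [] 4 false)))) (.sh [1] [7] true (.br (.sh [3] [] false (.leaf [12,3] 0 false)) (.sh [3] [] false (.leaf [] 4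 true)) (.sh [3] [] false (.leaf [1,10,10] 1 false))))) (.sh [0] [] false (.sh [2] [8,8] false (.sh [1,3,3] [] true (.br (.leaf [11,2] 0 true) (.leaf [2,2,11] 1 false) (.leaf [0,9,0] 4 false))))) (.sh [0] [] true (.sh [2] [8] true (.sh [1,3,3] [] false (.br (.leaf [11,2] 0 false) (.leaf [0,0,9,9,0,0] 4 false) (.leaf [2,11,11] 1 false)))))) (.br (.br (.br (.sh [4] [] true (.sh [5] [] false (.leaf [14,5] 0 false))) (.sh [1] [] false (.sh [5,6,6,7,7] [] false (.leaf [] 2 false))) (.sh [1] [] true (.sh [5,6,6,7,7] [] false (.leaf [] 3 true)))) (.sh [1] [7,7] false (.sh [4] [] true (.sh [0,2,2,3,3,5,6,6,7,7] [] true (.leaf [5] 5 false)))) (.sh [1] [7] true (.sh [4] [] true (.sh [5,6,6,7,7] [] false (.leaf [1,10,1,4,13,4] 5 false))))) (.sh [0] [] false (.sh [2] [8,8] false (.sh [1,3,3] [] true (.sh [5,6,6,7,7,8,8] [] false (.leaf [5,0,9,0]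 5 false))))) (.sh [0] [] true (.sh [2] [8] true (.sh [1,3,3] [] false (.sh [5,6,6,7,7,8,8] [] false (.leaf [5,0,9,9,0,0] 5 false)))))) (.br (.br (.br (.sh [4] [] false (.sh [5] [] true (.leaf [14,14,5,5] 0 false))) (.sh [1] [] false (.sh [5,6,6,7,7] [] true (.leaf [] 3 false))) (.sh [1] [] true (.sh [5,6,6,7,7] [] true (.leaf [] 2 true)))) (.sh [1] [7,7] false (.sh [4] [] false (.sh [5,6,6,7,7] [] true (.leaf [1,10,1,4,4,13,13,4,4] 5 false)))) (.sh [1] [7] true (.sh [4] [] false (.sh [0,2,2,3,3,5,6,6,7,7] [] false (.leaf [] 5 true))))) (.sh [0] [] false (.sh [2] [8,8] false (.sh [1,3,3] [] true (.sh [5,6,6,7,7,8,8] [] true (.leaf [0,9,9,0,0] 5 true))))) (.sh [0] [] true (.sh [2] [8] true (.sh [1,3,3] [] false (.sh [5,6,6,7,7,8,8] [] true (.leaf [0,9,0] 5 true))))))) (.sh [1] [] false (.br (.br (.sh [4] [8,8] true (.br (.sh [0,2,2,3,3,5,6,6,7,7]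 [] false (.leaf [4,13,13,4,4] 1 false)) (.sh [5,6,6,7,7] [] false (.leaf [4,4,13,13,4,4] 3 false)) (.sh [0,2,2,3,3,5,6,6,7,7] [] true (.leaf [4,4,13,13,4,4] 2 false)))) (.sh [4] [8,8] true (.br (.sh [0,2,2,3,3,5,6,6,7,7] [] true (.leaf [1,10,1,4,13,4] 3 false)) (.sh [0,2,2,3,3,5,6,6,7,7] [] false (.leaf [] 6 false)) (.sh [5,6,6,7,7] [] false (.leaf [1,2,4,1,1,10,10,1,4,4,13,13,4] 5 false)))) (.sh [4] [8,8] true (.br (.sh [5,6,6,7,7] [] false (.leaf [1,10,1,4,13,4] 2 false)) (.sh [0,2,2,3,3,5,6,6,7,7] [] true (.leaf [1,2,13,10,10,4,13,13,4,4] 5 false)) (.sh [0,2,2,3,3,5,6,6,7,7] [] false (.leaf [1,10,10,4,13,4] 6 false))))) (.sh [0,2,2,3,3] [6,6,7,7] false (.sh [2,3,3] [7,7,8,8] false (.sh [2,3,3,4,5,5,6,6,8,8] [8] true (.sh [2,4,5,5,6,6,7] [] false (.bad 1 5))))) (.sh [0,2,2,3,3] [6,7] true (.sh [2,3,3] [7,8] true (.sh [2,2,3,4,5,5,6,7]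 [] true (.sh [6,6,7,8] [] false (.bad 1 5))))))) (.sh [1] [] true (.br (.br (.sh [4] [8,8] false (.br (.sh [0,2,2,3,3,5,6,6,7,7] [] true (.leaf [4,13,4] 1 false)) (.sh [0,2,2,3,3,5,6,6,7,7] [] false (.leaf [4,13,4] 2 false)) (.sh [5,6,6,7,7] [] true (.leaf [4,13,4] 3 false)))) (.sh [4] [8,8] false (.br (.sh [5,6,6,7,7] [] true (.leaf [1,10,1,4,4,13,13,4,4] 2 false)) (.sh [0,2,2,3,3,5,6,6,7,7] [] true (.leaf [1,10,10,4,4,13,13,4,4] 6 false)) (.sh [0,2,2,3,3,5,6,6,7,7] [] false (.leaf [1,2,4,10,10,4,4,13,13,4] 5 false)))) (.sh [4] [8,8] false (.br (.sh [0,2,2,3,3,5,6,6,7,7] [] false (.leaf [1,10,1,4,4,13,13,4,4] 3 false)) (.sh [5,6,6,7,7] [] true (.leaf [1,2,13,1,1,10,10,1,4,13,13,4,4] 5 false)) (.sh [0,2,2,3,3,5,6,6,7,7] [] true (.leaf [] 6 true))))) (.sh [0,2,2,3,3] [6,6,7,7] false (.sh [2,3,3] [7,7,8,8] false (.sh [2,2,3,4,5,5,6,7]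 [8] false (.sh [2,4,4,5,7,7] [] true (.bad 1 5))))) (.sh [0,2,2,3,3] [6,7] true (.sh [2,3,3] [7,8] true (.sh [2,3,3,4,5,5,6,6,8,8] [] false (.sh [6,6,7] [] true (.bad 1 5)))))))) (.sh [0] [3,3] true (.sh [2] [] true (.br (.br (.sh [4,5,5,6,6,8,8] [7,7] false (.sh [4,6,6,8,8] [] false (.br (.leaf [14,14,5,5] 1 false) (.leaf [4,13,4,0,9,0] 2 false) (.leaf [4,13,4,0,9,0] 3 false)))) (.sh [1,3,3] [7,7,8] false (.sh [1,3,3,5,6,7,7,8] [8] true (.sh [3,8,8] [] true (.bad 1 6)))) (.sh [1,3,3] [7,8,8] true (.sh [1,1,3,5] [8] false (.sh [3,8,8] [] false (.bad 1 6))))) (.br (.sh [4,5,5,6,6,8,8] [7,7] false (.sh [4,6,6,8,8] [] false (.br (.leaf [1,10,1,4,13,4,0,9,9,0,0] 2 false) (.leaf [1,10,10,4,13,4,0,0,9,9,0,0] 6 false) (.leaf [4,10,4,4,13,13,4,0,0,9,0,2,2] 5 false)))) (.sh [1,3,3] [7,8] false (.sh [1,3,3,5,6,7,7,8] [8] false (.sh [1,1,3,3,5,5,6,7,7]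 [] false (.bad 1 6)))) (.sh [1,3,3] [8,8] true (.sh [1,1,3,5] [8] true (.sh [1,1,3,3,5,8,8] [] true (.bad 1 6))))) (.br (.sh [4,5,5,6,6,8,8] [7,7] false (.sh [4,6,6,8,8] [] false (.br (.leaf [1,10,1,4,13,4,0,9,9,0,0] 3 false) (.leaf [1,4,1,1,10,10,1,4,4,13,13,4,0,9,9,0,0] 5 false) (.leaf [0,0,9,9,0,0] 6 false)))) (.sh [1,3,3] [8] false (.sh [6,6,7,8,8] [] false (.sh [3,6,6,7,8,8] [] true (.bad 1 6)))) (.sh [1,3,3] [7,7,8,8] true (.sh [6,6,7,7,8,8] [] false (.sh [3,6,6,7,7,8,8] [] false (.bad 1 6)))))))) (.sh [0] [3,3] false (.sh [2] [] false (.br (.br (.sh [4,5,5,6,6,8,8] [] true (.sh [4,6,6,8,8] [] true (.br (.leaf [14,5] 1 false) (.leaf [4,13,4,0,0,9,9,0,0] 3 false) (.leaf [4,13,4,0,0,9,9,0,0] 2 false)))) (.sh [1,3,3] [7,7,8] false (.sh [6,6,7,7,8,8] [] true (.sh [3] [] true (.bad 1 6)))) (.sh [1,3,3] [7,8,8] true (.sh [1,3,3,5,6,7,7,8]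 [8,8] true (.sh [3,8,8] [] false (.bad 1 6))))) (.br (.sh [4,5,5,6,6,8,8] [] true (.sh [4,6,6,8,8] [] true (.br (.leaf [1,10,1,4,13,4,0,9,0] 3 false) (.leaf [0,9,0] 6 false) (.leaf [4,10,10,4,4,13,13,4,0,0,9,0,2] 5 false)))) (.sh [1,3,3] [7,8] false (.sh [1,1,3,5] [8,8] false (.sh [3,6,6,7,7,8] [] true (.bad 1 6)))) (.sh [1,3,3] [8,8] true (.sh [1,3,3,5,6,7,7,8] [8,8] false (.sh [1,1,3,3,5,5,6,7,7] [] true (.bad 1 6))))) (.br (.sh [4,5,5,6,6,8,8] [] true (.sh [4,6,6,8,8] [] true (.br (.leaf [1,10,1,4,13,4,0,9,0] 2 false) (.leaf [1,4,10,10,4,4,13,13,4,0,9,9,0,0] 5 false) (.leaf [1,10,10,4,13,4,0,9,0] 6 false)))) (.sh [1,3,3] [8] false (.sh [1,1,3,5] [8,8] true (.sh [3,3,6,6,7,7,8,8] [] false (.bad 1 6)))) (.sh [1,3,3] [7,7,8,8] true (.sh [6,6,7,8,8] [] true (.sh [3,6,7,7,8] [] false (.bad 1 6))))))))) (.br (.sh [1] [3,3] false (.br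 (.br (.sh [4] [] true (.br (.br (.sh [0,2,2,3,3,5,6,6,7,7] [] true (.leaf [16,7] 0 false)) (.sh [0,2,2,3,3,5,6,6,7,7] [] false (.leaf [1,10,1] 5 true)) (.sh [5,6,6,7,7] [] true (.leaf [4,4,13,13,4,4] 5 false))) (.br (.sh [0,2,2,3,3,5,6,6,7,7] [] false (.leaf [1,10,1] 2 true)) (.sh [5,6,6,7,7] [] true (.leaf [4,1,10,10,1,1] 5 true)) (.sh [0,2,2,3,3,5,6,6,7,7] [] true (.leaf [10,4,4,13,13,4] 5 false))) (.br (.sh [5,6,6,7,7] [] true (.leaf [1,10,1] 3 false)) (.sh [0,2,2,3,3,5,6,6,7,7] [] true (.leaf [4,1,1,10,1] 5 true)) (.sh [0,2,2,3,3,5,6,6,7,7] [] false (.leaf [10,10,4,4,13,13,4] 5 false))))) (.sh [4] [] true (.sh [0,2,2,3,3,4,5,6,6,7,7] [7,7,8] true (.sh [3,7,7] [8,8] false (.sh [5,6,6,7,7,8] [] true (.leaf [0,9,9,0,0,1,10,1] 5 true))))) (.sh [4] [] true (.sh [0,2,2,3,3,4,4,5,6,6,7,7] [7] false (.sh [3] [] true (.sh [5,6,6,7,7,8]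 [] true (.leaf [0,9,0,1,10,1] 5 true)))))) (.br (.sh [4] [7,7,8,8] true (.br (.br (.sh [2,3,3,6,7,7,8] [] true (.leaf [1,10,10,4,13,4] 1 false)) (.sh [0,2,2,3,3,5,6,6,7,7] [] true (.leaf [13,13,1,10,1] 5 true)) (.sh [0,2,2,3,3,5,6,6,7,7] [] false (.leaf [4,4,4,13,13,4,4] 5 false))) (.br (.sh [0,2,2,3,3,5,6,6,7,7] [] true (.leaf [1,1,1,10,10,1] 6 false)) (.sh [0,2,2,3,3,5,6,6,7,7] [] false (.leaf [2,2,1,1,10,10,1,4,13,13,4] 2 false)) (.sh [6,7,7,8] [] true (.leaf [2,1,10,1,1,4,4,13,4,4] 2 false))) (.br (.sh [0,2,2,3,3,5,6,6,7,7] [] false (.leaf [4,4,13,13,4,4] 6 false)) (.sh [2,3,3,6,7,7,8] [] false (.leaf [5,13,1,10,1,1] 3 false)) (.sh [0,2,2,3,3,5,6,6,7,7] [] true (.leaf [2,13,13,1,1,10,10,1] 3 false))))) (.sh [4] [7,7,8,8] true (.sh [0,2,2,3,3,4,5,6,6,7,7] [7,8,8] true (.sh [3,7,7] [8,8] false (.sh [7,7,8,8] [] true (.bad 1 5)))))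 (.sh [4] [7,7,8,8] true (.sh [0,2,2,3,3,4,4,5,6,6,7,7] [7,7,8] false (.sh [3] [] true (.sh [0,3,4,4,5,6,6,8] [] false (.bad 1 5)))))) (.br (.sh [4] [7,8] true (.br (.br (.sh [0,2,2,3,3,5,6,6,7,7] [] false (.leaf [4,13,13,4,4] 4 false)) (.sh [5,6,6,7,7] [] false (.leaf [13,1,10,1] 5 true)) (.sh [0,2,2,3,3,5,6,6,7,7] [] true (.leaf [4,13,13,4,4] 5 false))) (.br (.sh [5,6,6,7,7] [] false (.leaf [1,2,4,10,10,4,4,13,4,4] 5 false)) (.sh [0,2,2,3,3,5,6,6,7,7] [] true (.leaf [0,13,10,10] 6 false)) (.sh [0,2,2,3,3,5,6,6,7,7] [] false (.leaf [10,0,0,4,4,13,4,4] 6 false))) (.br (.sh [0,2,2,3,3,5,6,6,7,7] [] true (.leaf [1,2,4,1,1,10,10,1,4,4,13,4,4] 5 false)) (.sh [0,2,2,3,3,5,6,6,7,7] [] false (.leaf [0,1,10,1,1,4,4,13,4] 6 false)) (.sh [5,6,6,7,7] [] false (.leaf [0,0,1,1,4,13,13,4,4] 6 false))))) (.sh [4] [7,8] true (.sh [0,2,2,3,3,4,5,6,6,7,7]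 [] true (.sh [3,7,7] [8,8] false (.sh [5,6,6,7,7,8] [] false (.bad 1 5))))) (.sh [4] [7,8] true (.sh [0,2,2,3,3,4,4,5,6,6,7,7] [8,8] false (.sh [3] [] true (.sh [5,6,6,7,7,8] [] false (.bad 1 5)))))))) (.sh [0] [3,3] true (.sh [2] [] true (.br (.sh [4,5,5,6,6,8,8] [6,6] true (.sh [5,5,6] [] false (.sh [0,1,6] [8] true (.sh [7] [] false (.bad 2 6))))) (.sh [0,1] [] false (.sh [5,5,6,6,8] [7,7] false (.sh [6,6,7] [8] false (.sh [7] [] false (.bad 0 4))))) (.sh [0,1] [] true (.sh [5,5,6,6,8] [7,7] false (.sh [6,8] [] true (.sh [7,7,8] [] true (.bad 0 4)))))))) (.sh [0] [3,3] false (.sh [2] [] false (.br (.sh [4,5,5,6,6,8,8] [6,7] true (.sh [5,6,6,8,8] [7] false (.sh [0,0,1,2,2,3,6,6,8,8] [8,8] true (.sh [7,7,8] [] true (.bad 2 6))))) (.sh [0,0,1,2,2,3] [6,6,8,8] true (.sh [5,6,8,8] [] false (.sh [0,1,1,4,6,6,8] [8] true (.sh [0,0,1,2,2,4,4,5,5,6,6,8,8]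 [] true (.bad 0 4))))) (.sh [0,0,1,2,2,3] [6,8] false (.sh [5,6,8,8] [] false (.sh [0,0,1,2,2,3,4,5,6,7,7,8,8] [] true (.sh [7,7,8,8] [] true (.bad 0 4))))))))) (.br (.sh [1] [3] true (.br (.br (.sh [4] [] false (.br (.br (.sh [0,2,2,3,3,5,6,6,7,7] [] false (.leaf [16,16,7,7] 0 false)) (.sh [5,6,6,7,7] [] false (.leaf [4,13,4] 5 false)) (.sh [0,2,2,3,3,5,6,6,7,7] [] true (.leaf [5,1,10,1] 5 false))) (.br (.sh [5,6,6,7,7] [] false (.leaf [1,10,1] 3 true)) (.sh [0,2,2,3,3,5,6,6,7,7] [] true (.leaf [4,13,10,10] 5 false)) (.sh [0,2,2,3,3,5,6,6,7,7] [] false (.leaf [4,5,1,1,10,1] 5 false))) (.br (.sh [0,2,2,3,3,5,6,6,7,7] [] true (.leaf [1,10,1] 2 false)) (.sh [0,2,2,3,3,5,6,6,7,7] [] false (.leaf [4,10,13] 5 false)) (.sh [5,6,6,7,7] [] false (.leaf [4,5,1,10,10,1,1] 5 false))))) (.sh [4] [] false (.sh [0,2,2,3,3,4,4,5,6,6,7,7] [7,7] true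 (.sh [3] [] false (.sh [5,6,6,7,7,8] [] false (.leaf [5,0,9,0,1,10,1] 5 false))))) (.sh [4] [] false (.sh [0,2,2,3,3,4,5,6,6,7,7] [7,8,8] false (.sh [3,7,7] [8] true (.sh [5,6,6,7,7,8] [] false (.leaf [5,0,9,9,0,0,1,10,1] 5 false)))))) (.br (.sh [4] [7,7,8] false (.br (.br (.sh [0,2,2,3,3,5,6,6,7,7] [] true (.leaf [4,13,4] 4 false)) (.sh [0,2,2,3,3,5,6,6,7,7] [] false (.leaf [4,4,4,13,4] 5 false)) (.sh [5,6,6,7,7] [] true (.leaf [1,10,1,4,13,13,4] 5 true))) (.br (.sh [0,2,2,3,3,5,6,6,7,7] [] false (.leaf [1,2,4,13,13,1,1,10,10,1] 5 false)) (.sh [5,6,6,7,7] [] true (.leaf [0,0,1,1,10,10,1,4,13,13,4,4] 6 false)) (.sh [0,2,2,3,3,5,6,6,7,7] [] true (.leaf [0,1,4,4,13,4] 6 false))) (.br (.sh [5,6,6,7,7] [] true (.leaf [1,2,4,10,10,13,13] 5 false)) (.sh [0,2,2,3,3,5,6,6,7,7] [] true (.leaf [10,0,0,13,13] 6 false)) (.sh [0,2,2,3,3,5,6,6,7,7]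 [] false (.leaf [0,13,1,10,10,1,1] 6 false))))) (.sh [4] [7,7,8] false (.sh [0,2,2,3,3,4,4,5,6,6,7,7] [8,8] true (.sh [3] [] false (.sh [5,6,6,7,7,8] [] true (.bad 1 5))))) (.sh [4] [7,7,8] false (.sh [0,2,2,3,3,4,5,6,6,7,7] [8,8] false (.sh [3,7,7] [8] true (.sh [5,6,6,7,7,8] [] true (.bad 1 5)))))) (.br (.sh [4] [7,8,8] false (.br (.br (.sh [2,3,3,6,7,7,8] [] false (.leaf [1,10,10,4,13,13,4,4] 1 false)) (.sh [0,2,2,3,3,5,6,6,7,7] [] true (.leaf [4,4,13,4] 5 false)) (.sh [0,2,2,3,3,5,6,6,7,7] [] false (.leaf [1,10,1,4,4,13,4,4] 5 true))) (.br (.sh [0,2,2,3,3,5,6,6,7,7] [] true (.leaf [4,13,4] 6 false)) (.sh [0,2,2,3,3,5,6,6,7,7] [] false (.leaf [2,1,1,10,10,1,4,4,13,4,4] 3 false)) (.sh [2,3,3,6,7,7,8] [] true (.leaf [5,1,10,1,1,4,13,13,4] 3 false))) (.br (.sh [0,2,2,3,3,5,6,6,7,7] [] false (.leaf [1,10,10] 6 false)) (.sh [6,7,7,8]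 [] false (.leaf [2,13,13,1,10,1,1] 2 false)) (.sh [0,2,2,3,3,5,6,6,7,7] [] true (.leaf [13,2,2,1,1,10,10,1] 2 false))))) (.sh [4] [7,8,8] false (.sh [0,2,2,3,3,4,4,5,6,6,7,7] [7,8] true (.sh [3] [] false (.sh [0,3,4,4,5,6,6,8] [] false (.bad 1 5))))) (.sh [4] [7,8,8] false (.sh [0,2,2,3,3,4,5,6,6,7,7] [7,7,8,8] false (.sh [3,7,7] [8] true (.sh [0,3,4,5,6,7,7,8] [] false (.bad 1 5)))))))) (.sh [0] [3,3] true (.sh [2] [] true (.br (.sh [4,5,5,6,6,8,8] [7] false (.sh [5,6,7,7,8] [7,8] true (.sh [0,0,1,3,6,6,7,8,8] [] false (.sh [7,7,8] [] false (.bad 2 6))))) (.sh [0,0,1,3] [7,8] true (.sh [5,8] [7,7] true (.sh [0,0,1,3,4,6,6,7,7,8,8] [8,8] true (.sh [7,7,8] [] false (.bad 0 4))))) (.sh [0,0,1,3] [7,7,8,8] false (.sh [5,8] [7,7] true (.sh [0,1,1,2,2,3,3,4,5,5,6,7,8,8] [] false (.sh [7,7] [] false (.bad 0 4)))))))) (.sh [0] [3,3] false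 (.sh [2] [] false (.br (.sh [4,5,5,6,6,8,8] [7,7] false (.sh [5,5,7,7] [7,8] true (.sh [0,1,2,6,7,8] [8] false (.sh [7] [] true (.bad 2 6))))) (.sh [0,1,2] [6,7,8] false (.sh [5,5,6,8,8] [7,7] true (.sh [0,0,1,1,3,3,4,6,6,7,8,8] [8] false (.sh [0,1,2,3,4,4,5,7,7,8] [] false (.bad 0 4))))) (.sh [0,1,2] [6,6,7,7,8,8] true (.sh [5,5,6,8,8] [7,7] true (.sh [6,6,8,8] [] true (.sh [7,7,8,8] [] false (.bad 0 4))))))))))

def treeTop : Tree := tree0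

end Cfsg.Agent.Components.OmegaSeven
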